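import Mathlib
import Cfsg.Agent.H644.KGV.Defs

/-!
# A Frobenius invariant orbit function

`FF p T a z` is the `d`-th root of the Gauss sum `PG p T d a z`, where `d` is the length of the
Frobenius orbit of `z`.  It is constant on the Frobenius orbits, `OrbFun p T 1 a (FF p T a)`, it is
an algebraic integer with `‖FF p T a z‖ ^ 2 = p` for `z ≠ 1`, and `FF p T a 1 = 1`.
-/

set_option autoImplicit false

namespace Cfsg.Agent.H194.KGV

open Cfsg Finset Function Cfsg.Agent.H644.KGV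

/-- The length of the Frobenius orbit of `z`. -/
noncomputable def per (p : ℕ) (z : ℂ) : ℕ := minimalPeriod (fun w : ℂ => w ^ p) z

/-- The Frobenius invariant orbit function. -/
noncomputable def FF (p : ℕ) [NeZero p] (T : ℕ → ℕ → ZMod p) (a : ZMod p) (z : ℂ) : ℂ :=
  (PG p T (per p z) a z) ^ ((per p z : ℂ)⁻¹)

theorem iterate_pow_p (p i : ℕ) (z : ℂ) : (fun w : ℂ => w ^ p)^[i] z = z ^ (p ^ i) := by
  induction i with
  | zero => simp
  | succ i ih => rw [iterate_succ_apply', ih, ← pow_mul, pow_succ]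

variable {p : ℕ} [Fact p.Prime] {T : ℕ → ℕ → ZMod p}

theorem pos_pow (m : ℕ) : 1 ≤ p ^ m := Nat.one_le_pow _ _ (Fact.out : p.Prime).pos

theorem isPeriodicPt_of_pow {m : ℕ} {z : ℂ} (h : z ^ (p ^ m - 1) = 1) :
    IsPeriodicPt (fun w : ℂ => w ^ p) m z := by
  unfold IsPeriodicPt IsFixedPt
  rw [iterate_pow_p, ← Nat.sub_add_cancel (pos_pow (p := p) m), pow_succ, h, one_mul]

theorem pow_of_isPeriodicPt {m : ℕ} {z : ℂ} (hz : z ≠ 0)
    (h : IsPeriodicPt (fun w : ℂ => w ^ p) m z) : z ^ (p ^ m - 1) = 1 := by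
  unfold IsPeriodicPt IsFixedPt at h
  rw [iterate_pow_p, ← Nat.sub_add_cancel (pos_pow (p := p) m), pow_succ] at h
  exact mul_right_cancel₀ hz (by rw [h, one_mul])

theorem ne_zero_of_pow {m : ℕ} (hm : 1 ≤ m) {z : ℂ} (h : z ^ (p ^ m - 1) = 1) : z ≠ 0 := by
  rintro rfl
  have h1 : 1 < p ^ m := Nat.one_lt_pow (by omega) (Fact.out : p.Prime).one_lt
  rw [zero_pow (by omega)] at h
  exact zero_ne_one h

theorem per_dvd {m : ℕ} {z : ℂ} (h : z ^ (p ^ m - 1) = 1) : per p z ∣ m :=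
  (isPeriodicPt_of_pow h).minimalPeriod_dvd

theorem mem_periodicPts {m : ℕ} (hm : 1 ≤ m) {z : ℂ} (h : z ^ (p ^ m - 1) = 1) :
    z ∈ periodicPts (fun w : ℂ => w ^ p) :=
  mk_mem_periodicPts (by omega) (isPeriodicPt_of_pow h)

theorem per_pos {m : ℕ} (hm : 1 ≤ m) {z : ℂ} (h : z ^ (p ^ m - 1) = 1) : 1 ≤ per p z :=
  minimalPeriod_pos_of_mem_periodicPts (mem_periodicPts hm h)

theorem pow_per {m : ℕ} (hm : 1 ≤ m) {z : ℂ} (h : z ^ (p ^ m - 1) = 1) :
    z ^ (p ^ per p z - 1) = 1 :=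
  pow_of_isPeriodicPt (ne_zero_of_pow hm h) (isPeriodicPt_minimalPeriod _ z)

/-- Gauss sums are Frobenius invariant. -/
theorem PG_pow (hT : GaussSys p T) {f : ℕ} (hf : 1 ≤ f) (a : ZMod p) {z : ℂ}
    (hz : z ^ (p ^ f - 1) = 1) : PG p T f a (z ^ p) = PG p T f a z := by
  unfold PG
  congr 1
  set N := p ^ f - 1 with hN
  have h1 : 1 < p ^ f := Nat.one_lt_pow (by omega) (Fact.out : p.Prime).one_lt
  have hN0 : 0 < N := by omega
  have hpf : p ^ f = N + 1 := by omega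
  have hper : ∀ k j, T f (j + N * k) = T f j := by
    intro k
    induction k with
    | zero => intro j; rw [mul_zero, add_zero]
    | succ k ih => intro j; rw [Nat.mul_succ, ← add_assoc, hT.per f _ hf, ih]
  have hmod : ∀ j, T f (j % N) = T f j := by
    intro j
    conv_rhs => rw [← Nat.mod_add_div j N]
    exact (hper _ _).symm
  have hzm : ∀ j, z ^ (j % N) = z ^ j := by
    intro j
    conv_rhs => rw [← Nat.mod_add_div j N, pow_add, pow_mul, hz, one_pow, mul_one]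
  have hpp : p ^ (f - 1) * p = N + 1 := by rw [← pow_succ, Nat.sub_add_cancel hf, hpf]
  have hinv : ∀ j, j < N → (N + 1) * j % N = j := by
    intro j hj
    rw [Nat.add_mul, one_mul, Nat.add_comm, Nat.add_mul_mod_self_left, Nat.mod_eq_of_lt hj]
  refine Finset.sum_nbij' (fun j => (p * j) % N) (fun j => (p ^ (f - 1) * j) % N) ?_ ?_ ?_ ?_ ?_
  · intro j _
    exact Finset.mem_range.2 (Nat.mod_lt _ hN0)
  · intro j _
    exact Finset.mem_range.2 (Nat.mod_lt _ hN0)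
  · intro j hj
    rw [Nat.mul_mod, Nat.mod_mod, ← Nat.mul_mod, ← mul_assoc, hpp, hinv j (Finset.mem_range.1 hj)]
  · intro j hj
    rw [Nat.mul_mod, Nat.mod_mod, ← Nat.mul_mod, ← mul_assoc, mul_comm p, hpp,
      hinv j (Finset.mem_range.1 hj)]
  · intro j _
    change _ = (ZMod.stdAddChar (a * T f (p * j % N)) : ℂ) * z ^ (p * j % N)
    rw [hmod, hT.frob f j hf, hzm, ← pow_mul]

theorem per_pow {m : ℕ} (hm : 1 ≤ m) {z : ℂ} (h : z ^ (p ^ m - 1) = 1) :
    per p (z ^ p) = per p z :=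
  minimalPeriod_apply (mem_periodicPts hm h)

omit [Fact p.Prime] in
theorem pow_pow_eq {m : ℕ} {z : ℂ} (h : z ^ (p ^ m - 1) = 1) (k : ℕ) :
    (z ^ k) ^ (p ^ m - 1) = 1 := by
  rw [← pow_mul, mul_comm, pow_mul, h, one_pow]

theorem FF_frob (hT : GaussSys p T) (a : ZMod p) {m : ℕ} (hm : 1 ≤ m) {z : ℂ}
    (h : z ^ (p ^ m - 1) = 1) : FF p T a (z ^ p) = FF p T a z := by
  unfold FF
  rw [per_pow hm h, PG_pow hT (per_pos hm h) a (pow_per hm h)]

theorem FF_frob_iter (hT : GaussSys p T) (a : ZMod p) {m : ℕ} (hm : 1 ≤ m) {z : ℂ}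
    (h : z ^ (p ^ m - 1) = 1) (i : ℕ) : FF p T a (z ^ (p ^ i)) = FF p T a z := by
  induction i with
  | zero => rw [pow_zero, pow_one]
  | succ i ih => rw [pow_succ, pow_mul, FF_frob hT a hm (pow_pow_eq h _), ih]

theorem FF_pow_per (a : ZMod p) {m : ℕ} (hm : 1 ≤ m) {z : ℂ} (h : z ^ (p ^ m - 1) = 1) :
    FF p T a z ^ per p z = PG p T (per p z) a z := by
  unfold FF
  exact Complex.cpow_nat_inv_pow _ (by have := per_pos hm h; omega)

/-- `FF p T a` is an orbit function. -/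
theorem orbFun_FF (hT : GaussSys p T) {a : ZMod p} (ha : a ≠ 0) : OrbFun p T 1 a (FF p T a) := by
  intro e z he hz
  simp only [one_mul] at hz ⊢
  rw [Finset.prod_congr rfl fun i _ => FF_frob_iter hT a he hz i, Finset.prod_const,
    Finset.card_range]
  obtain ⟨m, hm⟩ := per_dvd hz
  have hd := per_pos he hz
  rw [show FF p T a z ^ e = (FF p T a z ^ per p z) ^ m by rw [← pow_mul, ← hm],
    FF_pow_per a he hz]
  have hm1 : 1 ≤ m := by
    rcases Nat.eq_zero_or_pos m with h0 | h0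
    · rw [h0, mul_zero] at hm
      omega
    · exact h0
  rw [← hT.lift _ m a z hd hm1 ha (pow_per he hz), ← hm]

theorem FF_one (hT : GaussSys p T) {a : ZMod p} (ha : a ≠ 0) : FF p T a 1 = 1 := by
  have h1 : (1 : ℂ) ^ (p ^ 1 - 1) = 1 := one_pow _
  unfold FF
  rw [hT.one _ a (per_pos le_rfl h1) ha, Complex.one_cpow]

theorem isIntegral_std (b : ZMod p) : IsIntegral ℤ (ZMod.stdAddChar b : ℂ) := by
  refine IsIntegral.of_pow (n := p) (Fact.out : p.Prime).pos ?_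
  rw [← AddChar.map_nsmul_eq_pow]
  rw [nsmul_eq_mul, CharP.cast_eq_zero, zero_mul, AddChar.map_zero_eq_one]
  exact isIntegral_one

theorem isIntegral_PG (hT : GaussSys p T) {f : ℕ} (hf : 1 ≤ f) {a : ZMod p} (ha : a ≠ 0) {z : ℂ}
    (hz : z ^ (p ^ f - 1) = 1) : IsIntegral ℤ (PG p T f a z) := by
  by_cases h1 : z = 1
  · rw [h1, hT.one f a hf ha]
    exact isIntegral_one
  · obtain ⟨y, hy, he⟩ := hT.ideal f a z hf hz h1
    rw [he]
    exact (isIntegral_one.sub (isIntegral_std 1)).mul hy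

theorem isIntegral_FF (hT : GaussSys p T) {a : ZMod p} (ha : a ≠ 0) {m : ℕ} (hm : 1 ≤ m) {z : ℂ}
    (h : z ^ (p ^ m - 1) = 1) : IsIntegral ℤ (FF p T a z) := by
  refine IsIntegral.of_pow (n := per p z) (per_pos hm h) ?_
  rw [FF_pow_per a hm h]
  exact isIntegral_PG hT (per_pos hm h) ha (pow_per hm h)

theorem norm_FF (hT : GaussSys p T) {a : ZMod p} (ha : a ≠ 0) {m : ℕ} (hm : 1 ≤ m) {z : ℂ}
    (h : z ^ (p ^ m - 1) = 1) (h1 : z ≠ 1) : ‖FF p T a z‖ ^ 2 = (p : ℝ) := by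
  have hd := per_pos hm h
  have h2 := hT.norm _ a z hd ha (pow_per hm h) h1
  rw [← FF_pow_per a hm h, norm_pow, ← pow_mul, mul_comm, pow_mul] at h2
  exact (pow_left_inj₀ (by positivity) (by positivity) (by omega)).1 h2

end Cfsg.Agent.H194.KGV
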