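import Cfsg.Agent.H644.KGV.Goals
import Cfsg.Agent.H500.KGV.Eig
import Cfsg.Agent.H688.KGV.UIntBasic
import Cfsg.Agent.H194.KGV.Orb

/-!
# The k(GV) theorem: existence of the class functions `κ` and the assembly

* `existsK`: integrality on elementary groups, the Brauer lift and the Gauss system give `KData`.
* `mainKGV`: reduction to a complement by the Schur–Zassenhaus theorem.
-/

set_option autoImplicit false

universe u

namespace Cfsg.Agent.H194.KGV

open Cfsg Finset Function Cfsg.Agent.H644.KGV Cfsg.Agent.H500.KGV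

/-- The elements of the multiset `M` of eigenvalues of a `p'`-element are `p ^ m - 1`-th roots of
unity for a common `m`. -/
theorem exists_pow_eq_one {p : ℕ} [Fact p.Prime] {N : ℕ} (hN : ¬ p ∣ N) (hN0 : N ≠ 0) :
    ∃ m : ℕ, 1 ≤ m ∧ ∀ z : ℂ, z ^ N = 1 → z ^ (p ^ m - 1) = 1 := by
  have hc : Nat.Coprime p N := ((Fact.out : p.Prime).coprime_iff_not_dvd).2 hN
  refine ⟨N.totient, Nat.totient_pos.2 (Nat.pos_of_ne_zero hN0), fun z hz => ?_⟩
  have h1 : N ∣ p ^ N.totient - 1 := (Nat.modEq_iff_dvd' (pos_pow _)).1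
    (Nat.ModEq.pow_totient hc).symm
  obtain ⟨k, hk⟩ := h1
  rw [hk, pow_mul, hz, one_pow]

section multiset

variable {p : ℕ} [Fact p.Prime] {T : ℕ → ℕ → ZMod p}

theorem norm_prod_FF (hT : GaussSys p T) {a : ZMod p} (ha : a ≠ 0) {m : ℕ} (hm : 1 ≤ m)
    (M : Multiset ℂ) (h : ∀ z ∈ M, z ^ (p ^ m - 1) = 1) :
    ‖(M.map (FF p T a)).prod‖ ^ 2 * (p : ℝ) ^ (M.count 1) = (p : ℝ) ^ M.card := by
  induction M using Multiset.induction_on with
  | empty => simp
  | cons z s ih =>
    have ih' := ih fun w hw => h w (Multiset.mem_cons_of_mem hw)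
    have hz := h z (Multiset.mem_cons_self z s)
    rw [Multiset.map_cons, Multiset.prod_cons, norm_mul, mul_pow, Multiset.card_cons]
    by_cases h1 : z = 1
    · subst h1
      rw [FF_one hT ha, norm_one, one_pow, one_mul, Multiset.count_cons_self,
        pow_succ (p : ℝ), ← mul_assoc, ih', pow_succ]
    · rw [norm_FF hT ha hm hz h1, Multiset.count_cons_of_ne (fun e => h1 e.symm), mul_assoc, ih',
        pow_succ, mul_comm]

theorem isIntegral_prod_FF (hT : GaussSys p T) {a : ZMod p} (ha : a ≠ 0) {m : ℕ} (hm : 1 ≤ m)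
    (M : Multiset ℂ) (h : ∀ z ∈ M, z ^ (p ^ m - 1) = 1) :
    IsIntegral ℤ (M.map (FF p T a)).prod := by
  refine IsIntegral.multiset_prod fun x hx => ?_
  obtain ⟨z, hz, rfl⟩ := Multiset.mem_map.1 hx
  exact isIntegral_FF hT ha hm (h z hz)

/-- A Frobenius invariant multiset with an element `z ≠ 1` contains its orbit. -/
theorem ideal_prod_FF (hT : GaussSys p T) {a : ZMod p} (ha : a ≠ 0) {m : ℕ} (hm : 1 ≤ m)
    (M : Multiset ℂ) (h : ∀ z ∈ M, z ^ (p ^ m - 1) = 1) (hM : M.map (fun z => z ^ p) = M)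
    {z : ℂ} (hz : z ∈ M) (hz1 : z ≠ 1) :
    ∃ y : ℂ, IsIntegral ℤ y ∧ (M.map (FF p T a)).prod =
      (1 - (ZMod.stdAddChar (1 : ZMod p) : ℂ)) * y := by
  classical
  have hmem : ∀ i : ℕ, z ^ (p ^ i) ∈ M := by
    intro i
    induction i with
    | zero => rwa [pow_zero, pow_one]
    | succ i ih =>
      rw [pow_succ, pow_mul, ← hM]
      exact Multiset.mem_map.2 ⟨_, ih, rfl⟩
  have hinj : Set.InjOn (fun i => z ^ (p ^ i)) (Finset.range (per p z) : Set ℕ) := by
    intro i hi j hj hij
    have h1 := iterate_injOn_Iio_minimalPeriod (f := fun w : ℂ => w ^ p) (x := z)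
    refine h1 (Set.mem_Iio.2 (Finset.mem_range.1 (Finset.mem_coe.1 hi)))
      (Set.mem_Iio.2 (Finset.mem_range.1 (Finset.mem_coe.1 hj))) ?_
    simp only [iterate_pow_p]
    exact hij
  set O : Finset ℂ := (Finset.range (per p z)).image fun i => z ^ (p ^ i) with hO
  have hle : O.val ≤ M := by
    rw [Finset.val_le_iff_val_subset]
    intro w hw
    obtain ⟨i, -, rfl⟩ := Finset.mem_image.1 (Finset.mem_def.2 hw)
    exact hmem i
  obtain ⟨R, hR⟩ := Multiset.le_iff_exists_add.1 hle
  have h2 : (O.val.map (FF p T a)).prod = PG p T (per p z) a z := by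
    change ∏ w ∈ O, FF p T a w = _
    rw [hO, Finset.prod_image (fun i hi j hj => hinj hi hj)]
    rw [Finset.prod_congr rfl fun i _ => FF_frob_iter hT a hm (h z hz) i, Finset.prod_const,
      Finset.card_range, FF_pow_per a hm (h z hz)]
  obtain ⟨y, hy, he⟩ := hT.ideal (per p z) a z (per_pos hm (h z hz)) (pow_per hm (h z hz)) hz1
  refine ⟨y * (R.map (FF p T a)).prod, hy.mul (isIntegral_prod_FF hT ha hm R fun w hw => h w ?_), ?_⟩
  · rw [hR]
    exact Multiset.mem_add.2 (Or.inr hw)
  · rw [hR, Multiset.map_add, Multiset.prod_add, h2, he, mul_assoc]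

end multiset

/-- The class functions `κ` exist. -/
theorem existsK (h : Elem.{u}) (h' : BrauerLift.{u})
    (h'' : ∀ (p : ℕ) [Fact p.Prime], ∃ T : ℕ → ℕ → ZMod p, GaussSys p T) : ExistsK.{u} := by
  intro p _ X _ _ V G _ hexp hidx hcen hcompl
  classical
  obtain ⟨T, hT⟩ := h'' p
  have hcomm : ∀ v ∈ V, ∀ w ∈ V, v * w = w * v := by
    intro v hv w hw
    have h1 : v ∈ Subgroup.centralizer (V : Set X) := by rw [hcen]; exact hv
    exact (Subgroup.mem_centralizer_iff.1 h1 w hw).symm
  have hcard : V.index = Nat.card G := hcompl.symm.index_eq_card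
  have hpG : ¬ p ∣ Nat.card G := by rwa [← hcard]
  obtain ⟨β, hβ, hβp, n, hn, hβe⟩ := h' p X V G hexp hcomm hpG
  obtain ⟨m, hm, hroot⟩ := exists_pow_eq_one (p := p) hpG Nat.card_pos.ne'
  have hev : ∀ g : G, ∀ z ∈ eig β g, z ^ (p ^ m - 1) = 1 := fun g z hz =>
    hroot z (pow_card_of_mem_eig hz)
  refine ⟨fun a g => kap (FF p T a) β g, ?_, ?_, ?_, ?_⟩
  · -- uniform integrality
    refine H688.KGV.UI.glue (fun a _ => isClassFunction_kap _ hβ) fun E ℓ hℓ hE => ?_
    have hpE : ¬ p ∣ Nat.card E := fun hd => hpG (hd.trans (Subgroup.card_subgroup_dvd_card E))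
    have hβE : IsCharacter E (fun x : E => β x) := Characters.Core.isCharacter_comp E.subtype hβ
    have h1 := h p T hT E ℓ 1 hℓ hE hpE le_rfl (fun x : E => β x) hβE
      (fun x => by
        rw [pow_one]
        exact hβp x) (fun a => FF p T a) fun a ha => orbFun_FF hT ha
    exact H688.KGV.UI.congr h1 fun a _ x => (kap_restrict _ hβ E x).symm
  · intro a ha
    have h1 : eig β (1 : G) = Multiset.replicate n 1 := by
      refine Multiset.eq_replicate.2 ⟨(hβe 1).1, fun z hz => ?_⟩
      have := pow_orderOf_of_mem_eig hz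
      rwa [orderOf_one, pow_one] at this
    change kap (FF p T a) β 1 = 1
    rw [kap_def, h1, Multiset.map_replicate, Multiset.prod_replicate, FF_one hT ha, one_pow]
  · intro a ha g
    rw [kap_def, hn, (hβe g).2]
    have := norm_prod_FF hT ha hm (eig β g) (hev g)
    rw [(hβe g).1] at this
    push_cast
    exact this
  · intro a ha g hg
    have hex : ∃ z ∈ eig β g, z ≠ 1 := by
      by_contra hcon
      push Not at hcon
      apply hg
      have h1 : eig β g = Multiset.replicate n 1 :=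
        Multiset.eq_replicate.2 ⟨(hβe g).1, hcon⟩
      have h2 := (hβe g).2
      rw [h1, Multiset.count_replicate_self, ← hn] at h2
      have h3 : V ⊓ Subgroup.centralizer ({(g : X)} : Set X) = V :=
        Subgroup.eq_of_le_of_card_ge inf_le_left h2.ge
      have h4 : (g : X) ∈ V := by
        rw [← hcen, Subgroup.mem_centralizer_iff]
        intro v hv
        have h5 : v ∈ Subgroup.centralizer ({(g : X)} : Set X) := (inf_eq_left.1 h3) hv
        exact (Subgroup.mem_centralizer_iff.1 h5 g (Set.mem_singleton _)).symm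
      have h6 : (g : X) ∈ V ⊓ G := ⟨h4, g.2⟩
      rw [hcompl.disjoint.eq_bot, Subgroup.mem_bot] at h6
      exact Subtype.ext h6
    obtain ⟨z, hz, hz1⟩ := hex
    exact ideal_prod_FF hT ha hm (eig β g) (hev g)
      (eig_map_pow hβ (fun x => hβp x) g) hz hz1

/-- The k(GV) theorem from the existence of `κ` and the final count. -/
theorem mainKGV (h : ExistsK.{u}) (h' : Count.{u}) : MainKGV.{u} := by
  intro p _ X _ _ V _ hexp hidx hcen
  have hp : IsPGroup p V := fun v => ⟨1, by
    rw [pow_one]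
    exact Subtype.ext (hexp v v.2)⟩
  obtain ⟨n, hn⟩ := IsPGroup.iff_card.1 hp
  have hcop : (Nat.card V).Coprime V.index := by
    rw [hn]
    exact Nat.Coprime.pow_left n (((Fact.out : p.Prime).coprime_iff_not_dvd).2 hidx)
  obtain ⟨G, hG⟩ := Subgroup.exists_right_complement'_of_coprime hcop
  obtain ⟨κ, hκ⟩ := h p X V G hexp hidx hcen hG
  have hcard : V.index = Nat.card G := hG.symm.index_eq_card
  rw [hcard]
  exact h' p X V G hexp hidx hcen hG κ hκ

end Cfsg.Agent.H194.KGV
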